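import Cfsg.Agent.Fi23Syl.Search
import Cfsg.Agent.SporB.Fi23.Class
import Cfsg.Prelude.Def_Transfer

/-!
In `Fi23` every elementary abelian subgroup of order at least 2^11 of a fixed Sylow 2-subgroup is
the subgroup generated by a base of commuting transpositions.
-/

set_option autoImplicit false
set_option maxRecDepth 100000

namespace Cfsg.Agent.Fi23Syl

open Cfsg.Agent.CosetEnum
open Cfsg.Agent.CosetEnum.Fi23 (pres rep nodup)

/-- The group. -/
abbrev G : Type := pres.Gp

/-- The number of points. -/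
abbrev Pt : Type := Fin Fi23.Rep.tbl.n

noncomputable instance : MulAction G Pt := MulAction.compHom _ (rep.hom nodup)

theorem smul_def (g : G) (i : Pt) : g • i = rep.hom nodup g i := rfl

theorem n_eq : Fi23.Rep.tbl.n = 31671 := rfl

/-- A natural number as a point. -/
noncomputable def pt (k : ℕ) : Pt := if h : k < Fi23.Rep.tbl.n then ⟨k, h⟩ else rep.base

theorem pt_val {k : ℕ} (h : k < 31671) : ((pt k : Pt) : ℕ) = k := by
  rw [pt, dif_pos (show k < Fi23.Rep.tbl.n from h)]

theorem pt_coe (i : Pt) : pt (i : ℕ) = i := by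
  rw [pt, dif_pos i.2]

/-- All letters of a word are letters of the table. -/
def lettersOk (W : List ℕ) : Bool := W.all fun l => Nat.blt l 10

theorem inv_smul_run {W : List ℕ} (hW : lettersOk W = true) (i : Pt) :
    (((evalWord pres.val W)⁻¹ • i : Pt) : ℕ) = Fi23.Rep.tbl.run W i := by
  rw [smul_def, map_inv]
  exact rep.hom_inv_apply nodup
    (fun l hl => Nat.le_of_ble_eq_true (List.all_eq_true.mp hW l hl)) i

theorem smul_run {W : List ℕ} (hW : lettersOk W = true) (i : Pt) :
    ((evalWord pres.val W • i : Pt) : ℕ) = Fi23.Rep.tbl.run W.reverse i := by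
  have h := inv_smul_run (W := W.reverse) (by rw [lettersOk, List.all_reverse]; exact hW) i
  rwa [Fi23.inv_word, inv_inv] at h

/-- Decode a word. -/
def dec : ℕ → ℕ → List ℕ
  | 0, _ => []
  | fuel + 1, e => bif Nat.beq e 0 then [] else (e % 16 - 1) :: dec fuel (e / 16)

/-- Decode a word of length below 400. -/
def dec' (e : ℕ) : List ℕ := dec 400 e

/-- The transposition attached to a point. -/
noncomputable def tau (x : Pt) : G :=
  (rep.transitive nodup Fi23.Rep.descend x).choose * Fi23.z *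
    (rep.transitive nodup Fi23.Rep.descend x).choose⁻¹

theorem stab_centralizes {g : G} (hg : g • (rep.base : Pt) = rep.base) : g * Fi23.z = Fi23.z * g := by
  have h : g ∈ Fi23.H := by rw [Fi23.H_stab.1]; exact hg
  rw [← Fi23.centralizer_z, Subgroup.mem_centralizer_singleton_iff] at h
  exact h

theorem tau_eq {h : G} {x : Pt} (hx : h • (rep.base : Pt) = x) : tau x = h * Fi23.z * h⁻¹ := by
  set u := (rep.transitive nodup Fi23.Rep.descend x).choose with hu
  have hux : u • (rep.base : Pt) = x := (rep.transitive nodup Fi23.Rep.descend x).choose_spec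
  have hfix : (h⁻¹ * u) • (rep.base : Pt) = rep.base := by
    rw [mul_smul, hux, ← hx, inv_smul_smul]
  have hc := stab_centralizes hfix
  show u * Fi23.z * u⁻¹ = _
  calc u * Fi23.z * u⁻¹ = h * ((h⁻¹ * u) * Fi23.z) * u⁻¹ := by group
    _ = h * (Fi23.z * (h⁻¹ * u)) * u⁻¹ := by rw [hc]
    _ = h * Fi23.z * h⁻¹ := by group

theorem tau_smul (g : G) (x : Pt) : tau (g • x) = g * tau x * g⁻¹ := by
  obtain ⟨u, hu⟩ := rep.transitive nodup Fi23.Rep.descend x
  have hu' : u • (rep.base : Pt) = x := hu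
  rw [tau_eq (h := g * u) (by rw [mul_smul, hu']), tau_eq hu']
  group

theorem tau_comm {g : G} {x : Pt} (h : g • x = x) : g * tau x = tau x * g := by
  have h1 := tau_smul g x
  rw [h] at h1
  exact (eq_mul_inv_iff_mul_eq.mp h1).symm

theorem tau_sq (x : Pt) : tau x * tau x = 1 := by
  rw [tau]
  generalize (rep.transitive nodup Fi23.Rep.descend x).choose = u
  calc u * Fi23.z * u⁻¹ * (u * Fi23.z * u⁻¹) = u * (Fi23.z * Fi23.z) * u⁻¹ := by group
    _ = 1 := by rw [Fi23.z_sq]; group

/-! ### Faithfulness on ten points -/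

theorem letter_one : pres.val 1 = tau (pt (letterPts.getD 1 0)) := by
  have hx : (evalWord pres.val Fi23.Rep.conjU)⁻¹ • (rep.base : Pt) = pt (letterPts.getD 1 0) := by
    apply Fin.ext
    rw [inv_smul_run (by decide +kernel), pt_val (by decide +kernel)]
    show Fi23.Rep.tbl.run Fi23.Rep.conjU 0 = letterPts.getD 1 0
    decide +kernel
  rw [tau_eq hx, Fi23.z_conj]
  show pres.val Fi23.Rep.conjL = _
  group

theorem letter_step {i j : ℕ} (hrel : [i, j, i, j, i, j] ∈ pres.relWords)
    (hi2 : [i, i] ∈ pres.relWords) (hj2 : [j, j] ∈ pres.relWords)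
    (hlt : (decide (letterPts.getD i 0 < 31671) && decide (letterPts.getD j 0 < 31671) &&
      lettersOk [i, j] && Nat.beq (Fi23.Rep.tbl.run [j, i] (letterPts.getD i 0))
        (letterPts.getD j 0)) = true)
    (h : pres.val i = tau (pt (letterPts.getD i 0))) : pres.val j = tau (pt (letterPts.getD j 0)) := by
  simp only [Bool.and_eq_true, decide_eq_true_eq] at hlt
  have h1 := pres.rel_val _ hrel
  have h2 := pres.rel_val _ hi2
  have h3 := pres.rel_val _ hj2
  simp only [evalWord] at h1
  simp only [evalWord, mul_one] at h2 h3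
  have hx : evalWord pres.val [i, j] • pt (letterPts.getD i 0) = pt (letterPts.getD j 0) := by
    apply Fin.ext
    rw [smul_run hlt.1.2, pt_val hlt.1.1.1, pt_val hlt.1.1.2]
    exact Nat.eq_of_beq_eq_true hlt.2
  rw [← hx, tau_smul, ← h]
  simp only [evalWord, mul_one]
  exact (Fi23.braid h2 h3 h1).symm

theorem letters_tau : ∀ l < 10, pres.val l = tau (pt (letterPts.getD l 0)) := by
  have h1 := letter_one
  have h0 := letter_step (i := 1) (j := 0) (by decide +kernel) (by decide +kernel) (by decide +kernel) (by decide +kernel) h1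
  have h2 := letter_step (i := 1) (j := 2) (by decide +kernel) (by decide +kernel) (by decide +kernel) (by decide +kernel) h1
  have h3 := letter_step (i := 2) (j := 3) (by decide +kernel) (by decide +kernel) (by decide +kernel) (by decide +kernel) h2
  have h4 := letter_step (i := 3) (j := 4) (by decide +kernel) (by decide +kernel) (by decide +kernel) (by decide +kernel) h3
  have h5 := letter_step (i := 4) (j := 5) (by decide +kernel) (by decide +kernel) (by decide +kernel) (by decide +kernel) h4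
  have h6 := letter_step (i := 5) (j := 6) (by decide +kernel) (by decide +kernel) (by decide +kernel) (by decide +kernel) h5
  have h7 := letter_step (i := 6) (j := 7) (by decide +kernel) (by decide +kernel) (by decide +kernel) (by decide +kernel) h6
  have h8 := letter_step (i := 3) (j := 8) (by decide +kernel) (by decide +kernel) (by decide +kernel) (by decide +kernel) h3
  have h9 := letter_step (i := 8) (j := 9) (by decide +kernel) (by decide +kernel) (by decide +kernel) (by decide +kernel) h8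
  intro l hl
  interval_cases l
  exacts [h0, h1, h2, h3, h4, h5, h6, h7, h8, h9]

theorem eq_one_of_fix {g : G}
    (h : ∀ l < 10, g • pt (letterPts.getD l 0) = pt (letterPts.getD l 0)) : g = 1 := by
  haveI := Fi23.simple
  have hc : g ∈ Subgroup.center G := by
    refine Subgroup.mem_center_iff.mpr fun x => ?_
    have hx : x ∈ Subgroup.centralizer ({g} : Set G) := by
      have h2 : (⊤ : Subgroup G) ≤ Subgroup.centralizer ({g} : Set G) := by
        rw [← pres.closure_val, Subgroup.closure_le]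
        rintro _ ⟨l, hl, rfl⟩
        rw [SetLike.mem_coe, Subgroup.mem_centralizer_singleton_iff, letters_tau l hl]
        exact (tau_comm (h l hl)).symm
      exact h2 (Subgroup.mem_top x)
    exact Subgroup.mem_centralizer_singleton_iff.mp hx
  rcases (inferInstance : (Subgroup.center G).Normal).eq_bot_or_eq_top with e | e
  · rwa [e, Subgroup.mem_bot] at hc
  · exfalso
    have hz : Subgroup.centralizer ({Fi23.z} : Set G) = ⊤ := eq_top_iff.mpr fun x _ =>
      Subgroup.mem_centralizer_singleton_iff.mpr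
        (Subgroup.mem_center_iff.mp (e ▸ Subgroup.mem_top Fi23.z) x)
    have hi := Fi23.H_stab.2
    rw [← Fi23.centralizer_z, hz, Subgroup.index_top] at hi
    exact absurd hi (by decide)

/-- A word fixes the ten points. -/
noncomputable def isOneWord (W : List ℕ) : Bool :=
  lettersOk W &&
    letterPts.all fun x => Nat.blt x 31671 && Nat.beq (Fi23.Rep.tbl.run W x) x

theorem word_eq_one {W : List ℕ} (h : isOneWord W = true) : evalWord pres.val W = 1 := by
  rw [isOneWord, Bool.and_eq_true, List.all_eq_true] at h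
  rw [← inv_eq_one]
  refine eq_one_of_fix fun l hl => Fin.ext ?_
  have hmem : letterPts.getD l 0 ∈ letterPts := by
    rw [List.getD_eq_getElem _ _ (by simpa [letterPts] using hl)]
    exact List.getElem_mem _
  have h2 := h.2 _ hmem
  rw [Bool.and_eq_true] at h2
  rw [inv_smul_run h.1, pt_val (Nat.le_of_ble_eq_true h2.1)]
  exact Nat.eq_of_beq_eq_true h2.2

/-! ### The base and the subgroup it generates -/

/-- The base of commuting transpositions. -/
noncomputable def c (k : ℕ) : Pt := pt (cl.getD k 0)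

/-- The word of a transposition of the base. -/
def clTau (k : ℕ) : List ℕ :=
  dec' (clWords.getD k 0) ++ (Fi23.Rep.zWord ++ (dec' (clWords.getD k 0)).reverse)

/-- The check for the words of the base. -/
noncomputable def clOk : Bool :=
  allRange (fun k => Nat.blt (cl.getD k 0) 31671 && lettersOk (dec' (clWords.getD k 0)) &&
    lettersOk (clTau k) &&
    Nat.beq (Fi23.Rep.tbl.run (dec' (clWords.getD k 0)) (cl.getD k 0)) 0 &&
    allRange (fun j => Nat.beq (Fi23.Rep.tbl.run (clTau k) (cl.getD j 0)) (cl.getD j 0)) 0 23) 0 23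

theorem cl_ok : clOk = true := by decide +kernel

theorem cl_spec {k : ℕ} (hk : k < 23) : cl.getD k 0 < 31671 ∧ lettersOk (dec' (clWords.getD k 0)) = true ∧
    lettersOk (clTau k) = true ∧
    Fi23.Rep.tbl.run (dec' (clWords.getD k 0)) (cl.getD k 0) = 0 ∧
    ∀ j < 23, Fi23.Rep.tbl.run (clTau k) (cl.getD j 0) = cl.getD j 0 := by
  have h := allRange_spec cl_ok k (Nat.zero_le _) (by omega)
  simp only [Bool.and_eq_true] at h
  exact ⟨Nat.le_of_ble_eq_true h.1.1.1.1, h.1.1.1.2, h.1.1.2, Nat.eq_of_beq_eq_true h.1.2,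
    fun j hj => Nat.eq_of_beq_eq_true (allRange_spec h.2 j (Nat.zero_le _) (by omega))⟩

theorem tau_c {k : ℕ} (hk : k < 23) : tau (c k) = evalWord pres.val (clTau k) := by
  obtain ⟨h1, h2, -, h4, -⟩ := cl_spec hk
  have hx : evalWord pres.val (dec' (clWords.getD k 0)) • (rep.base : Pt) = c k := by
    rw [smul_eq_iff_eq_inv_smul]
    apply Fin.ext
    rw [inv_smul_run h2, c, pt_val h1, h4]
    rfl
  rw [tau_eq hx, clTau, evalWord_append, evalWord_append, Fi23.inv_word, ← mul_assoc]
  rfl

theorem tau_c_fix {j k : ℕ} (hj : j < 23) (hk : k < 23) : tau (c k) • c j = c j := by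
  obtain ⟨-, -, h3, -, h5⟩ := cl_spec hk
  have e : (tau (c k))⁻¹ • c j = c j := by
    apply Fin.ext
    rw [tau_c hk, inv_smul_run h3, c, pt_val (cl_spec hj).1]
    exact h5 j hj
  rw [← inv_smul_eq_iff.mp e]

theorem tau_c_comm {j k : ℕ} (hj : j < 23) (hk : k < 23) :
    tau (c j) * tau (c k) = tau (c k) * tau (c j) := tau_comm (tau_c_fix hk hj)

theorem bidx_lt : ∀ k, bidx.getD k 0 < 23 := by
  intro k
  rcases Nat.lt_or_ge k bidx.length with h | h
  · have h1 : ∀ j < bidx.length, bidx.getD j 0 < 23 := by decide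
    exact h1 k h
  · rw [List.getD_eq_default _ _ h]
    decide

/-- A basis element. -/
noncomputable def tb (k : ℕ) : G := tau (c (bidx.getD k 0))

/-- Products of basis elements. -/
noncomputable def aK : ℕ → ℕ → G
  | 0, _ => 1
  | k + 1, v => aK k v * (bif v.testBit k then tb k else 1)

/-- The element with coordinates `v`. -/
noncomputable def a (v : ℕ) : G := aK 11 v

theorem tb_comm_aK (k : ℕ) : ∀ (m v : ℕ), Commute (tb k) (aK m v)
  | 0, _ => Commute.one_right _
  | m + 1, v => by
    refine (tb_comm_aK k m v).mul_right ?_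
    cases v.testBit m
    · exact Commute.one_right _
    · exact tau_c_comm (bidx_lt k) (bidx_lt m)

theorem aK_xor : ∀ (m v w : ℕ), aK m (v ^^^ w) = aK m v * aK m w
  | 0, _, _ => (one_mul _).symm
  | m + 1, v, w => by
    rw [aK, aK, aK, aK_xor m v w, Nat.testBit_xor]
    cases v.testBit m <;> cases w.testBit m <;>
      simp only [Bool.false_xor, Bool.true_xor, Bool.not_true, Bool.not_false, cond_true, cond_false, mul_one]
    · rw [mul_assoc]
    · rw [mul_assoc, mul_assoc, (tb_comm_aK m m w).eq]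
    · rw [← mul_assoc, mul_assoc (aK m v) (tb m), (tb_comm_aK m m w).eq, ← mul_assoc, mul_assoc,
        tb, tau_sq, mul_one]

theorem a_xor (v w : ℕ) : a (v ^^^ w) = a v * a w := aK_xor 11 v w

theorem a_zero : a 0 = 1 := by
  have h : ∀ m, aK m 0 = 1 := fun m => by
    induction m with
    | zero => rfl
    | succ m ih => rw [aK, ih, Nat.zero_testBit]; exact one_mul _
  exact h 11

theorem a_inv (v : ℕ) : (a v)⁻¹ = a v := inv_eq_of_mul_eq_one_right (by rw [← a_xor, Nat.xor_self, a_zero])

/-- The word of a product of basis elements. -/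
def aWord : ℕ → ℕ → List ℕ
  | 0, _ => []
  | k + 1, v => aWord k v ++ bif v.testBit k then clTau (bidx.getD k 0) else []

theorem aWord_eval : ∀ (m v : ℕ), evalWord pres.val (aWord m v) = aK m v
  | 0, _ => rfl
  | m + 1, v => by
    rw [aWord, evalWord_append, aWord_eval m v, aK]
    cases v.testBit m
    · rfl
    · rw [cond_true, cond_true, tb, tau_c (bidx_lt m)]

/-- The check for the coordinates of the base. -/
noncomputable def codeOk : Bool :=
  allRange (fun k => Nat.blt (code.getD k 0) 2048 &&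
    isOneWord (clTau k ++ (aWord 11 (code.getD k 0)).reverse)) 0 23

theorem code_ok : codeOk = true := by decide +kernel

theorem tau_code {k : ℕ} (hk : k < 23) : tau (c k) = a (code.getD k 0) ∧ code.getD k 0 < 2048 := by
  have h := allRange_spec code_ok k (Nat.zero_le _) (by omega)
  simp only [Bool.and_eq_true] at h
  refine ⟨?_, Nat.le_of_ble_eq_true h.1⟩
  have h2 := word_eq_one h.2
  rw [evalWord_append, Fi23.inv_word, aWord_eval, ← tau_c hk] at h2
  exact mul_inv_eq_one.mp h2

/-- Depth first evaluation at two points. -/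
noncomputable def indep : ℕ → ℕ → ℕ → ℕ → Bool → Bool
  | 0, _, y0, y1, nz => !nz || !(Nat.beq y0 x0 && Nat.beq y1 x1)
  | m + 1, k, y0, y1, nz => indep m (k + 1) y0 y1 nz &&
      forceNat (Fi23.Rep.tbl.run (clTau (bidx.getD k 0)) y0) (fun z0 =>
        forceNat (Fi23.Rep.tbl.run (clTau (bidx.getD k 0)) y1) (fun z1 => indep m (k + 1) z0 z1 true))

theorem indep_ok : indep 11 0 x0 x1 false = true := by decide +kernel

theorem step_run (k : ℕ) (y : Pt) :
    ((tb k • y : Pt) : ℕ) = Fi23.Rep.tbl.run (clTau (bidx.getD k 0)) y := by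
  have h3 := (cl_spec (bidx_lt k)).2.2.1
  rw [tb, show tau (c (bidx.getD k 0)) = (tau (c (bidx.getD k 0)))⁻¹ from
    (inv_eq_of_mul_eq_one_right (tau_sq _)).symm, tau_c (bidx_lt k), inv_smul_run h3]

theorem indep_sound : ∀ (m k v : ℕ) (y0 y1 : Pt) (nz : Bool), k + m = 11 →
    y0 = aK k v • pt x0 → y1 = aK k v • pt x1 → (nz = true ↔ ∃ j < k, v.testBit j = true) →
    indep m k y0 y1 nz = true → (∃ j < 11, v.testBit j = true) →
    a v • pt x0 ≠ pt x0 ∨ a v • pt x1 ≠ pt x1
  | 0, k, v, y0, y1, nz, hk, h0, h1, hnz, h, hv => by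
    obtain rfl : k = 11 := by omega
    rw [indep, hnz.mpr hv] at h
    by_contra hc
    rw [not_or, not_not, not_not] at hc
    rw [a] at hc
    rw [h0, h1, hc.1, hc.2, pt_val (by decide), pt_val (by decide), Nat.beq_refl, Nat.beq_refl] at h
    exact Bool.noConfusion h
  | m + 1, k, v, y0, y1, nz, hk, h0, h1, hnz, h, hv => by
    rw [indep, Bool.and_eq_true, forceNat_eq, forceNat_eq] at h
    cases hb : v.testBit k with
    | false =>
      refine indep_sound m (k + 1) v y0 y1 nz (by omega) ?_ ?_ ?_ h.1 hv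
      · rw [h0, aK, hb, cond_false, mul_one]
      · rw [h1, aK, hb, cond_false, mul_one]
      · rw [hnz]
        exact ⟨fun ⟨j, hj, hjb⟩ => ⟨j, by omega, hjb⟩, fun ⟨j, hj, hjb⟩ =>
          ⟨j, by rcases Nat.lt_succ_iff_lt_or_eq.mp hj with h | h
                 · exact h
                 · subst h; rw [hb] at hjb; exact absurd hjb (by decide), hjb⟩⟩
    | true =>
      have e : aK (k + 1) v = tb k * aK k v := by
        rw [aK, hb, cond_true, (tb_comm_aK k k v).eq]
      refine indep_sound m (k + 1) v (tb k • y0) (tb k • y1) true (by omega) ?_ ?_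
        ⟨fun _ => ⟨k, by omega, hb⟩, fun _ => rfl⟩ ?_ hv
      · rw [h0, e, mul_smul]
      · rw [h1, e, mul_smul]
      · rw [step_run, step_run]
        exact h.2

theorem a_ne_one {v : ℕ} (hv : v < 2048) (h0 : v ≠ 0) : a v ≠ 1 := by
  intro h
  have hex : ∃ j < 11, v.testBit j = true := by
    obtain ⟨j, hj⟩ := Nat.exists_testBit_of_ne_zero h0
    refine ⟨j, ?_, hj⟩
    by_contra hc
    have : v.testBit j = false :=
      Nat.testBit_lt_two_pow (lt_of_lt_of_le hv (Nat.pow_le_pow_right (n := 2) (by norm_num) (by omega : 11 ≤ j)))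
    rw [this] at hj
    exact Bool.noConfusion hj
  rcases indep_sound 11 0 v (pt x0) (pt x1) false rfl (one_smul _ _).symm (one_smul _ _).symm
      ⟨fun h => Bool.noConfusion h, fun ⟨j, hj, _⟩ => absurd hj (Nat.not_lt_zero j)⟩
      (by rw [pt_val (by decide), pt_val (by decide)]; exact indep_ok) hex with hc | hc <;>
    exact hc (by rw [h, one_smul])

theorem a_inj {v w : ℕ} (hv : v < 2048) (hw : w < 2048) (h : a v = a w) : v = w := by
  by_contra hne
  refine a_ne_one (Nat.xor_lt_two_pow (n := 11) hv hw) ?_ ?_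
  · rwa [Ne, Nat.xor_eq_zero_iff]
  · rw [a_xor, h, ← a_xor, Nat.xor_self, a_zero]

/-- The elementary abelian subgroup of order 2^11. -/
def A : Subgroup G where
  carrier := {g | ∃ v < 2048, a v = g}
  one_mem' := ⟨0, by norm_num, a_zero⟩
  mul_mem' := by
    rintro _ _ ⟨v, hv, rfl⟩ ⟨w, hw, rfl⟩
    exact ⟨v ^^^ w, Nat.xor_lt_two_pow (n := 11) hv hw, a_xor v w⟩
  inv_mem' := by
    rintro _ ⟨v, hv, rfl⟩
    exact ⟨v, hv, (a_inv v).symm⟩

theorem A_card : Nat.card A = 2048 := by
  rw [← Nat.card_fin 2048]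
  refine (Nat.card_eq_of_bijective (fun v : Fin 2048 => (⟨a v, v, v.2, rfl⟩ : A)) ⟨?_, ?_⟩).symm
  · intro v w h
    exact Fin.ext (a_inj v.2 w.2 (congrArg Subtype.val h))
  · rintro ⟨_, v, hv, rfl⟩
    exact ⟨⟨v, hv⟩, rfl⟩

theorem aK_fix (k : ℕ) (hk : k < 23) : ∀ m v, aK m v • c k = c k
  | 0, _ => one_smul _ _
  | m + 1, v => by
    rw [aK, mul_smul]
    cases v.testBit m
    · rw [cond_false, one_smul]
      exact aK_fix k hk m v
    · rw [cond_true, tb, tau_c_fix hk (bidx_lt m)]
      exact aK_fix k hk m v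

/-! ### The pointwise stabiliser of the base -/

/-- The pointwise stabiliser of the first `i` base points. -/
noncomputable def stabUpTo : ℕ → Subgroup G
  | 0 => ⊤
  | i + 1 => stabUpTo i ⊓ MulAction.stabilizer G (c i)

theorem mem_stabUpTo : ∀ {i : ℕ} {g : G}, g ∈ stabUpTo i ↔ ∀ j < i, g • c j = c j
  | 0, g => by simp [stabUpTo]
  | i + 1, g => by
    rw [stabUpTo, Subgroup.mem_inf, mem_stabUpTo, MulAction.mem_stabilizer_iff]
    exact ⟨fun h j hj => (Nat.lt_succ_iff_lt_or_eq.mp hj).elim (h.1 j) (fun e => e ▸ h.2),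
      fun h => ⟨fun j hj => h j (by omega), h i (by omega)⟩⟩

theorem card_step (i : ℕ) : Nat.card (stabUpTo (i + 1)) * (MulAction.orbit (stabUpTo i) (c i)).ncard =
    Nat.card (stabUpTo i) := by
  rw [← MulAction.index_stabilizer,
    show MulAction.stabilizer (stabUpTo i) (c i) = (MulAction.stabilizer G (c i)).subgroupOf (stabUpTo i) from rfl,
    ← Subgroup.inf_subgroupOf_left]
  have h : stabUpTo i ⊓ MulAction.stabilizer G (c i) ≤ stabUpTo i := inf_le_left
  rw [show stabUpTo (i + 1) = stabUpTo i ⊓ MulAction.stabilizer G (c i) from rfl,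
    ← Nat.card_congr (Subgroup.subgroupOfEquivOfLe h).toEquiv, Subgroup.card_mul_index]

/-- The first coordinates strictly increase. -/
def incr : List (ℕ × ℕ) → Bool
  | [] => true
  | x :: rest => (match rest with | [] => true | y :: _ => Nat.blt x.1 y.1) && incr rest

theorem incr_pairwise : ∀ {L : List (ℕ × ℕ)}, incr L = true → (L.map Prod.fst).Pairwise (· < ·)
  | [], _ => List.Pairwise.nil
  | [x], _ => by simp
  | x :: y :: rest, h => by
    rw [incr, Bool.and_eq_true] at h
    have h2 := incr_pairwise h.2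
    rw [List.map_cons, List.pairwise_cons]
    refine ⟨fun z hz => ?_, h2⟩
    have hxy : x.1 < y.1 := Nat.le_of_ble_eq_true h.1
    rw [List.map_cons, List.mem_cons] at hz
    rcases hz with rfl | hz
    · exact hxy
    · rw [List.map_cons, List.pairwise_cons] at h2
      exact hxy.trans (h2.1 z hz)

/-- The check for one level. -/
noncomputable def lvOk (i : ℕ) (L : List (ℕ × ℕ)) : Bool :=
  incr L && L.all fun e => Nat.blt e.1 31671 && lettersOk (dec' e.2) &&
    Nat.beq (Fi23.Rep.tbl.run (dec' e.2) (cl.getD i 0)) e.1 &&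
    allRange (fun j => Nat.beq (Fi23.Rep.tbl.run (dec' e.2) (cl.getD j 0)) (cl.getD j 0)) 0 i

theorem orbit_ge {i : ℕ} (hi : i < 23) {L : List (ℕ × ℕ)} (h : lvOk i L = true) :
    L.length ≤ (MulAction.orbit (stabUpTo i) (c i)).ncard := by
  rw [lvOk, Bool.and_eq_true, List.all_eq_true] at h
  have hnd : (L.map Prod.fst).Nodup := (incr_pairwise h.1).imp fun h => ne_of_lt h
  calc L.length = (L.map Prod.fst).toFinset.card := by
        rw [List.toFinset_card_of_nodup hnd, List.length_map]
    _ = ((L.map Prod.fst).toFinset.image pt).card := by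
        refine (Finset.card_image_of_injOn fun x hx y hy e => ?_).symm
        rw [Finset.mem_coe, List.mem_toFinset, List.mem_map] at hx hy
        obtain ⟨ex, hex, rfl⟩ := hx
        obtain ⟨ey, hey, rfl⟩ := hy
        have a1 := h.2 _ hex
        have a2 := h.2 _ hey
        simp only [Bool.and_eq_true] at a1 a2
        have := congrArg Fin.val e
        rwa [pt_val (Nat.le_of_ble_eq_true a1.1.1.1), pt_val (Nat.le_of_ble_eq_true a2.1.1.1)] at this
    _ ≤ _ := by
        rw [← Set.ncard_coe_finset]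
        refine Set.ncard_le_ncard ?_ (Set.toFinite _)
        intro x hx
        rw [Finset.mem_coe, Finset.mem_image] at hx
        obtain ⟨y, hy, rfl⟩ := hx
        rw [List.mem_toFinset, List.mem_map] at hy
        obtain ⟨e, he, rfl⟩ := hy
        have h2 := h.2 e he
        simp only [Bool.and_eq_true] at h2
        obtain ⟨⟨⟨h21, h22⟩, h23⟩, h24⟩ := h2
        have hmem : (evalWord pres.val (dec' e.2))⁻¹ ∈ stabUpTo i := mem_stabUpTo.mpr fun j hj => by
          apply Fin.ext
          rw [inv_smul_run h22, c, pt_val (cl_spec (by omega : j < 23)).1]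
          exact Nat.eq_of_beq_eq_true (allRange_spec h24 j (Nat.zero_le _) (by omega))
        refine ⟨⟨_, hmem⟩, Fin.ext ?_⟩
        show (((evalWord pres.val (dec' e.2))⁻¹ • c i : Pt) : ℕ) = _
        rw [inv_smul_run h22, c, pt_val (cl_spec hi).1, pt_val (Nat.le_of_ble_eq_true h21)]
        exact Nat.eq_of_beq_eq_true h23

theorem orbit_zero : (MulAction.orbit (stabUpTo 0) (c 0)).ncard = 31671 := by
  have : MulAction.orbit (stabUpTo 0) (c 0) = Set.univ := by
    refine Set.eq_univ_of_forall fun x => ?_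
    obtain ⟨g, hg⟩ := rep.transitive nodup Fi23.Rep.descend (c 0)
    obtain ⟨h, hh⟩ := rep.transitive nodup Fi23.Rep.descend x
    refine ⟨⟨h * g⁻¹, Subgroup.mem_top _⟩, ?_⟩
    have hg' : g • (rep.base : Pt) = c 0 := hg
    show (h * g⁻¹) • c 0 = x
    rw [← hg', mul_smul, inv_smul_smul]
    exact hh
  rw [this, Set.ncard_univ, Nat.card_fin]
  rfl

theorem lv1_ok : lvOk 1 lv1 = true ∧ lv1.length = 3510 := by decide +kernel

theorem lv2_ok : lvOk 2 lv2 = true ∧ lv2.length = 693 := by decide +kernel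

theorem lv3_ok : lvOk 3 lv3 = true ∧ lv3.length = 180 := by decide +kernel

theorem lv4_ok : lvOk 4 lv4 = true ∧ lv4.length = 3 := by decide +kernel

theorem lv7_ok : lvOk 7 lv7 = true ∧ lv7.length = 48 := by decide +kernel

theorem card_stab_le : Nat.card (stabUpTo 8) ≤ 2048 := by
  have hpos : ∀ i, 1 ≤ (MulAction.orbit (stabUpTo i) (c i)).ncard := fun i => by
    rw [Nat.one_le_iff_ne_zero]
    intro h
    rw [Set.ncard_eq_zero (Set.toFinite _)] at h
    exact absurd (MulAction.mem_orbit_self (M := stabUpTo i) (c i)) (by simp [h])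
  have step : ∀ i m : ℕ, m ≤ (MulAction.orbit (stabUpTo i) (c i)).ncard →
      Nat.card (stabUpTo (i + 1)) * m ≤ Nat.card (stabUpTo i) := fun i m hm =>
    (Nat.mul_le_mul_left _ hm).trans (card_step i).le
  have s0 := step 0 31671 orbit_zero.ge
  have s1 := step 1 3510 (lv1_ok.2 ▸ orbit_ge (by norm_num) lv1_ok.1)
  have s2 := step 2 693 (lv2_ok.2 ▸ orbit_ge (by norm_num) lv2_ok.1)
  have s3 := step 3 180 (lv3_ok.2 ▸ orbit_ge (by norm_num) lv3_ok.1)
  have s4 := step 4 3 (lv4_ok.2 ▸ orbit_ge (by norm_num) lv4_ok.1)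
  have s5 := step 5 1 (hpos 5)
  have s6 := step 6 1 (hpos 6)
  have s7 := step 7 48 (lv7_ok.2 ▸ orbit_ge (by norm_num) lv7_ok.1)
  have h0 : Nat.card (stabUpTo 0) = 4089470473293004800 := by
    rw [show stabUpTo 0 = ⊤ from rfl, Subgroup.card_top]
    exact Fi23.card_eq
  rw [h0] at s0
  simp only [Nat.reduceAdd] at s0 s1 s2 s3 s4 s5 s6 s7
  omega

theorem mem_A_of_fix {g : G} (h : ∀ k < 23, g • c k = c k) : g ∈ A := by
  haveI := Fi23.finite
  have hle : A ≤ stabUpTo 8 := by
    rintro _ ⟨v, -, rfl⟩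
    exact mem_stabUpTo.mpr fun j hj => aK_fix j (by omega) 11 v
  rw [Subgroup.eq_of_le_of_card_ge hle (card_stab_le.trans A_card.ge)]
  exact mem_stabUpTo.mpr fun j hj => h j (by omega)

/-! ### The Sylow subgroup -/

/-- The index of a permutation of the base induced by an element. -/
def IsIdx (g : G) (i : ℕ) : Prop := i < 128 ∧ ∀ k < 23, g • c k = c (app i k)

/-- The check of the model. -/
noncomputable def modelOk : Bool :=
  allRange (fun i => allRange (fun k => Nat.blt (app i k) 23 && Nat.beq (app 0 k) k) 0 23 &&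
    allRange (fun j => Nat.blt (mu i j) 128 &&
      allRange (fun k => Nat.beq (app (mu i j) k) (app i (app j k))) 0 23) 0 128 &&
    Nat.beq (mu 0 i) i &&
    allRange (fun j => Nat.beq i j || !(allRange (fun k => Nat.beq (app i k) (app j k)) 0 23)) 0 128 &&
    (Nat.beq i 0 || (List.range i).any fun j => genIdx.any fun q => Nat.beq (mu j q) i)) 0 128

theorem model_ok : modelOk = true := by decide +kernel

theorem model_spec {i : ℕ} (hi : i < 128) : (∀ k < 23, app i k < 23 ∧ app 0 k = k) ∧
    (∀ j < 128, mu i j < 128 ∧ ∀ k < 23, app (mu i j) k = app i (app j k)) ∧ mu 0 i = i ∧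
    (∀ j < 128, (∀ k < 23, app i k = app j k) → i = j) ∧
    (i ≠ 0 → ∃ j < i, ∃ q ∈ genIdx, mu j q = i) := by
  have h := allRange_spec model_ok i (Nat.zero_le _) (by omega)
  simp only [Bool.and_eq_true] at h
  obtain ⟨⟨⟨⟨h1, h2⟩, h3⟩, h4⟩, h5⟩ := h
  refine ⟨fun k hk => ?_, fun j hj => ?_, Nat.eq_of_beq_eq_true h3, fun j hj he => ?_, fun hi0 => ?_⟩
  · have := allRange_spec h1 k (Nat.zero_le _) (by omega)
    rw [Bool.and_eq_true] at this
    exact ⟨Nat.le_of_ble_eq_true this.1, Nat.eq_of_beq_eq_true this.2⟩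
  · have := allRange_spec h2 j (Nat.zero_le _) (by omega)
    rw [Bool.and_eq_true] at this
    exact ⟨Nat.le_of_ble_eq_true this.1,
      fun k hk => Nat.eq_of_beq_eq_true (allRange_spec this.2 k (Nat.zero_le _) (by omega))⟩
  · have := allRange_spec h4 j (Nat.zero_le _) (by omega)
    rw [Bool.or_eq_true, Bool.not_eq_true'] at this
    rcases this with h | h
    · exact Nat.eq_of_beq_eq_true h
    · exfalso
      have h' : ∀ a n, a + n ≤ 23 → allRange (fun k => Nat.beq (app i k) (app j k)) a n = true := by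
        intro a n
        induction n generalizing a with
        | zero => intro _; rfl
        | succ n ih =>
          intro hn
          show Bool.rec (motive := fun _ => Bool) false _ (Nat.beq (app i a) (app j a)) = true
          rw [he a (by omega), Nat.beq_refl]
          exact ih (a + 1) (by omega)
      rw [h' 0 23 le_rfl] at h
      exact Bool.noConfusion h
  · rw [Bool.or_eq_true, List.any_eq_true] at h5
    rcases h5 with h | ⟨j, hj, hq⟩
    · exact absurd (Nat.eq_of_beq_eq_true h) hi0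
    · rw [List.any_eq_true] at hq
      obtain ⟨q, hq, hq2⟩ := hq
      exact ⟨j, List.mem_range.mp hj, q, hq, Nat.eq_of_beq_eq_true hq2⟩

theorem IsIdx.one : IsIdx 1 0 :=
  ⟨by norm_num, fun k hk => by rw [((model_spec (by norm_num : 0 < 128)).1 k hk).2, one_smul]⟩

theorem IsIdx.mul {g h : G} {i j : ℕ} (hg : IsIdx g i) (hh : IsIdx h j) : IsIdx (g * h) (mu i j) := by
  obtain ⟨h1, h2⟩ := (model_spec hg.1).2.1 j hh.1
  refine ⟨h1, fun k hk => ?_⟩
  rw [mul_smul, hh.2 k hk, hg.2 _ ((model_spec hh.1).1 k hk).1, h2 k hk]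

theorem IsIdx.unique {g : G} {i j : ℕ} (hi : IsIdx g i) (hj : IsIdx g j) : i = j := by
  refine (model_spec hi.1).2.2.2.1 j hj.1 fun k hk => ?_
  have e := (hi.2 k hk).symm.trans (hj.2 k hk)
  have l1 := ((model_spec hi.1).1 k hk).1
  have l2 := ((model_spec hj.1).1 k hk).1
  have e2 := congrArg Fin.val e
  rw [c, c, pt_val (cl_spec l1).1, pt_val (cl_spec l2).1] at e2
  have hinj : ∀ a < 23, ∀ b < 23, cl.getD a 0 = cl.getD b 0 → a = b := by decide +kernel
  exact hinj _ l1 _ l2 e2

/-- The word of a generator. -/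
def genWord (m : ℕ) : List ℕ := (dec' (genWords.getD m 0)).reverse

/-- The check of the generators. -/
noncomputable def genOk : Bool :=
  allRange (fun m => lettersOk (genWord m) && Nat.blt (genIdx.getD m 0) 128 &&
    allRange (fun k => Nat.beq (Fi23.Rep.tbl.run (genWord m).reverse (cl.getD k 0))
      (cl.getD (app (genIdx.getD m 0) k) 0)) 0 23) 0 4

theorem gen_ok : genOk = true := by decide +kernel

theorem gen_idx {m : ℕ} (hm : m < 4) : IsIdx (evalWord pres.val (genWord m)) (genIdx.getD m 0) := by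
  have h := allRange_spec gen_ok m (Nat.zero_le _) (by omega)
  simp only [Bool.and_eq_true] at h
  refine ⟨Nat.le_of_ble_eq_true h.1.2, fun k hk => Fin.ext ?_⟩
  rw [smul_run h.1.1, c, c, pt_val (cl_spec hk).1,
    pt_val (cl_spec ((model_spec (Nat.le_of_ble_eq_true h.1.2)).1 k hk).1).1]
  exact Nat.eq_of_beq_eq_true (allRange_spec h.2 k (Nat.zero_le _) (by omega))

/-- The set of generators. -/
def gset : Set G := {g | g ∈ A ∨ ∃ m < 4, evalWord pres.val (genWord m) = g}

/-- The Sylow subgroup. -/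
def T0 : Subgroup G := Subgroup.closure gset

theorem A_le : A ≤ T0 := fun _ hg => Subgroup.subset_closure (Or.inl hg)

theorem idx_A {g : G} (hg : g ∈ A) : IsIdx g 0 := by
  obtain ⟨v, -, rfl⟩ := hg
  exact ⟨by norm_num, fun k hk => by
    rw [((model_spec (by norm_num : 0 < 128)).1 k hk).2]; exact aK_fix k hk 11 v⟩

theorem exists_idx {g : G} (hg : g ∈ T0) : ∃ i, IsIdx g i := by
  haveI := Fi23.finite
  rw [T0, ← Subgroup.mem_toSubmonoid, Subgroup.closure_toSubmonoid_of_finite] at hg
  induction hg using Submonoid.closure_induction with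
  | mem x hx =>
    rcases hx with hx | ⟨m, hm, rfl⟩
    · exact ⟨0, idx_A hx⟩
    · exact ⟨_, gen_idx hm⟩
  | one => exact ⟨0, IsIdx.one⟩
  | mul x y _ _ hx hy =>
    obtain ⟨i, hi⟩ := hx
    obtain ⟨j, hj⟩ := hy
    exact ⟨_, hi.mul hj⟩

/-- The index of an element. -/
noncomputable def idx (g : T0) : ℕ := (exists_idx g.2).choose

theorem idx_spec (g : T0) : IsIdx g (idx g) := (exists_idx g.2).choose_spec

theorem idx_mul (g h : T0) : idx (g * h) = mu (idx g) (idx h) :=
  (idx_spec (g * h)).unique ((idx_spec g).mul (idx_spec h))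

theorem idx_eq_zero_iff (g : T0) : idx g = 0 ↔ (g : G) ∈ A := by
  refine ⟨fun h => mem_A_of_fix fun k hk => ?_, fun h => (idx_spec g).unique (idx_A h)⟩
  rw [(idx_spec g).2 k hk, h, ((model_spec (by norm_num : 0 < 128)).1 k hk).2]

theorem idx_eq_iff (g h : T0) : idx g = idx h ↔ (g : G)⁻¹ * h ∈ A := by
  constructor
  · intro e
    refine mem_A_of_fix fun k hk => ?_
    rw [mul_smul, inv_smul_eq_iff, (idx_spec g).2 k hk, (idx_spec h).2 k hk, e]
  · intro hm
    refine (idx_spec g).unique ⟨(idx_spec h).1, fun k hk => ?_⟩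
    rw [← (idx_spec h).2 k hk]
    conv_rhs => rw [show (h : G) = g * ((g : G)⁻¹ * h) by group, mul_smul,
      (idx_A hm).2 k hk, ((model_spec (by norm_num : 0 < 128)).1 k hk).2]

theorem exists_elt : ∀ i < 128, ∃ g : T0, idx g = i := by
  intro i
  induction i using Nat.strong_induction_on with
  | _ i ih =>
    intro hi
    rcases eq_or_ne i 0 with rfl | hne
    · exact ⟨1, (idx_eq_zero_iff 1).mpr A.one_mem⟩
    · obtain ⟨j, hj, q, hq, rfl⟩ := (model_spec hi).2.2.2.2 hne
      obtain ⟨g, hg⟩ := ih j hj (hj.trans hi)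
      obtain ⟨m, hm, hmq⟩ : ∃ m < 4, genIdx.getD m 0 = q := by
        have hlen : genIdx.length = 4 := rfl
        obtain ⟨m, hm, rfl⟩ := List.getElem_of_mem hq
        exact ⟨m, hlen ▸ hm, List.getD_eq_getElem _ _ hm⟩
      have hs : evalWord pres.val (genWord m) ∈ T0 := Subgroup.subset_closure (Or.inr ⟨m, hm, rfl⟩)
      have hgi : idx ⟨_, hs⟩ = q := (idx_spec ⟨_, hs⟩).unique (hmq ▸ gen_idx hm)
      exact ⟨g * ⟨_, hs⟩, by rw [idx_mul, hg, hgi]⟩

/-- The tuple of base points moved by an element. -/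
noncomputable def tuple : Fin 23 → Pt := fun k => c k

theorem card_T0 : Nat.card T0 = 2 ^ 18 := by
  haveI := Fi23.finite
  rw [← (A.subgroupOf T0).card_mul_index, Nat.card_congr (Subgroup.subgroupOfEquivOfLe A_le).toEquiv,
    A_card]
  have h : (A.subgroupOf T0).index = 128 := by
    rw [Subgroup.index_eq_card, ← Nat.card_fin 128]
    refine Nat.card_eq_of_bijective (Quotient.lift (fun g : T0 => (⟨idx g, (idx_spec g).1⟩ : Fin 128))
      fun g h e => Fin.ext ?_) ⟨?_, ?_⟩
    · exact (idx_eq_iff g h).mpr (Subgroup.mem_subgroupOf.mp (QuotientGroup.leftRel_apply.mp e))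
    · intro p q
      induction p using Quotient.inductionOn' with | h g =>
      induction q using Quotient.inductionOn' with | h h =>
      intro e
      exact QuotientGroup.eq.mpr ((idx_eq_iff g h).mp (congrArg Fin.val e))
    · rintro ⟨i, hi⟩
      obtain ⟨g, hg⟩ := exists_elt i hi
      exact ⟨Quotient.mk'' g, Fin.ext hg⟩
  rw [h]
  norm_num

theorem T0_isPGroup : IsPGroup 2 T0 := IsPGroup.of_card card_T0

theorem T0_index : ¬ 2 ∣ T0.index := by
  have h := T0.card_mul_index
  rw [card_T0, show Nat.card G = 4089470473293004800 from Fi23.card_eq] at h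
  omega

theorem conj_a {g : G} {i : ℕ} (hg : IsIdx g i) :
    ∀ m v, g * aK m v * g⁻¹ = a (actK i m v)
  | 0, _ => by rw [aK, mul_one, mul_inv_cancel, actK, a_zero]
  | m + 1, v => by
    rw [aK, actK, a_xor, ← conj_a hg m v]
    cases v.testBit m
    · rw [cond_false, cond_false, a_zero, mul_one, mul_one]
    · have hl := ((model_spec hg.1).1 _ (bidx_lt m)).1
      rw [cond_true, cond_true, ← (tau_code hl).1, tb, ← hg.2 _ (bidx_lt m), tau_smul]
      group

theorem actK_lt (i : ℕ) (hi : i < 128) : ∀ m v, actK i m v < 2 ^ 11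
  | 0, _ => by norm_num [actK]
  | m + 1, v => by
    rw [actK]
    refine Nat.xor_lt_two_pow (actK_lt i hi m v) ?_
    cases v.testBit m
    · norm_num
    · exact (tau_code ((model_spec hi).1 _ (bidx_lt m)).1).2

theorem A_normal {g : G} (hg : g ∈ T0) {x : G} (hx : x ∈ A) : g * x * g⁻¹ ∈ A := by
  obtain ⟨v, -, rfl⟩ := hx
  obtain ⟨i, hi⟩ := exists_idx hg
  exact ⟨_, actK_lt i hi.1 11 v, (conj_a hi 11 v).symm⟩

theorem A_elementary : Cfsg.IsElementaryAbelian 2 A := by
  refine ⟨⟨⟨?_⟩⟩, ?_⟩
  · rintro ⟨_, v, hv, rfl⟩ ⟨_, w, hw, rfl⟩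
    apply Subtype.ext
    show a v * a w = a w * a v
    rw [← a_xor, ← a_xor, Nat.xor_comm]
  · rintro _ ⟨v, hv, rfl⟩
    rw [pow_two, ← a_xor, Nat.xor_self, a_zero]

theorem eq_A {X : Subgroup G} (hXT : X ≤ T0) (hX : Cfsg.IsElementaryAbelian 2 X)
    (hcard : 2 ^ 11 ≤ Nat.card X) : X = A := by
  classical
  haveI := Fi23.finite
  haveI := Fintype.ofFinite X
  have hcomm : ∀ x ∈ X, ∀ y ∈ X, x * y = y * x := fun x hx y hy =>
    congrArg Subtype.val (hX.1.is_comm.comm ⟨x, hx⟩ ⟨y, hy⟩)
  let f : X → ℕ := fun x => idx ⟨x, hXT x.2⟩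
  let B : Finset ℕ := Finset.univ.image f
  let V : Finset ℕ := (Finset.range 2048).filter fun v => a v ∈ X
  have hXA : Nat.card (A.subgroupOf X) = V.card := by
    rw [← Fintype.card_coe, ← Nat.card_eq_fintype_card]
    refine (Nat.card_eq_of_bijective (fun v : V => (⟨⟨a v, (Finset.mem_filter.mp v.2).2⟩,
      v.1, Finset.mem_range.mp (Finset.mem_filter.mp v.2).1, rfl⟩ : A.subgroupOf X)) ⟨?_, ?_⟩).symm
    · intro v w e
      exact Subtype.ext (a_inj (Finset.mem_range.mp (Finset.mem_filter.mp v.2).1)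
        (Finset.mem_range.mp (Finset.mem_filter.mp w.2).1)
        (congrArg (fun x : A.subgroupOf X => ((x : X) : G)) e))
    · rintro ⟨⟨x, hx⟩, hxA⟩
      obtain ⟨v, hv, rfl⟩ : x ∈ A := hxA
      exact ⟨⟨v, Finset.mem_filter.mpr ⟨Finset.mem_range.mpr hv, hx⟩⟩, rfl⟩
  have hidx : (A.subgroupOf X).index = B.card := by
    rw [Subgroup.index_eq_card, ← Fintype.card_coe, ← Nat.card_eq_fintype_card]
    refine Nat.card_eq_of_bijective (Quotient.lift (fun x : X => (⟨f x,
      Finset.mem_image.mpr ⟨x, Finset.mem_univ x, rfl⟩⟩ : B))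
      fun g h e => Subtype.ext ?_) ⟨?_, ?_⟩
    · exact (idx_eq_iff ⟨g, hXT g.2⟩ ⟨h, hXT h.2⟩).mpr
        (Subgroup.mem_subgroupOf.mp (QuotientGroup.leftRel_apply.mp e))
    · intro p q
      induction p using Quotient.inductionOn' with | h g =>
      induction q using Quotient.inductionOn' with | h h =>
      intro e
      exact QuotientGroup.eq.mpr ((idx_eq_iff ⟨g, hXT g.2⟩ ⟨h, hXT h.2⟩).mp (congrArg Subtype.val e))
    · rintro ⟨i, hi⟩
      obtain ⟨x, -, rfl⟩ := Finset.mem_image.mp hi
      exact ⟨Quotient.mk'' x, rfl⟩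
  have hmem : ∀ b ∈ B, ∃ x : X, f x = b := fun b hb => by
    obtain ⟨x, -, h⟩ := Finset.mem_image.mp hb
    exact ⟨x, h⟩
  have hfmul : ∀ x y : X, mu (f x) (f y) = f (x * y) := fun x y => (idx_mul _ _).symm
  have hB : ∀ b ∈ B, b < 128 := fun b hb => by
    obtain ⟨x, rfl⟩ := hmem b hb
    exact (idx_spec _).1
  have key := node_sound (B := B) (V := V) hB
    (fun b hb c hc => by
      obtain ⟨x, rfl⟩ := hmem b hb
      obtain ⟨y, rfl⟩ := hmem c hc
      exact Finset.mem_image.mpr ⟨x * y, Finset.mem_univ _, (hfmul x y).symm⟩)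
    (fun b hb c hc => by
      obtain ⟨x, rfl⟩ := hmem b hb
      obtain ⟨y, rfl⟩ := hmem c hc
      rw [hfmul, hfmul, show x * y = y * x from Subtype.ext (hcomm x x.2 y y.2)])
    (fun b hb => by
      obtain ⟨x, rfl⟩ := hmem b hb
      rw [hfmul, show x * x = 1 from Subtype.ext (by rw [← pow_two]; exact hX.2 x x.2)]
      exact (idx_eq_zero_iff _).mpr A.one_mem)
    (fun b hb => (model_spec (hB b hb)).2.2.1)
    (fun v hv => Finset.mem_range.mp (Finset.mem_filter.mp hv).1)
    (fun b hb v hv => by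
      obtain ⟨x, rfl⟩ := hmem b hb
      obtain ⟨hv1, hv2⟩ := Finset.mem_filter.mp hv
      have h1 := conj_a (idx_spec ⟨x, hXT x.2⟩) 11 v
      rw [show aK 11 v = a v from rfl, hcomm _ x.2 _ hv2, mul_inv_cancel_right] at h1
      exact (a_inj (Finset.mem_range.mp hv1) (actK_lt _ (idx_spec _).1 11 v) h1).symm)
    6 0 [0] (List.range 2048) invols search_ok List.mem_cons_self
    (fun b hb => by
      obtain rfl := List.mem_singleton.mp hb
      exact Finset.mem_image.mpr ⟨1, Finset.mem_univ _, (idx_eq_zero_iff _).mpr A.one_mem⟩)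
    (fun b _ => (Nat.eq_zero_or_pos b).imp (fun h => List.mem_singleton.mpr h) id)
    (fun v hv => List.mem_range.mpr (Finset.mem_range.mp (Finset.mem_filter.mp hv).1))
    (fun b hb => mem_invols (hB b hb) (by
      obtain ⟨x, rfl⟩ := hmem b hb
      rw [hfmul, show x * x = 1 from Subtype.ext (by rw [← pow_two]; exact hX.2 x x.2)]
      exact (idx_eq_zero_iff _).mpr A.one_mem))
  have htot := (A.subgroupOf X).card_mul_index
  rw [hXA, hidx] at htot
  rcases key with h | h
  · rw [mul_comm] at h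
    omega
  · have hle : X ≤ A := fun x hx => by
      rw [← idx_eq_zero_iff ⟨x, hXT hx⟩]
      exact (Finset.card_le_one.mp h) _ (Finset.mem_image.mpr ⟨⟨x, hx⟩, Finset.mem_univ _, rfl⟩)
        _ (Finset.mem_image.mpr ⟨1, Finset.mem_univ _, (idx_eq_zero_iff _).mpr A.one_mem⟩)
    exact Subgroup.eq_of_le_of_card_ge hle (A_card.le.trans hcard)

/-- The result, for every Sylow 2-subgroup. -/
theorem unique_abelian (T : Sylow 2 G) :
    (∀ X : Subgroup G, X ≤ T → Cfsg.IsElementaryAbelian 2 X → Nat.card X ≤ 2 ^ 11) ∧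
    ∃ X : Subgroup G, (X ≤ T ∧ (X.subgroupOf T).Normal ∧ Cfsg.IsElementaryAbelian 2 X ∧
        Nat.card X = 2 ^ 11) ∧
      ∀ Y : Subgroup G, Y ≤ T → Cfsg.IsElementaryAbelian 2 Y → 2 ^ 11 ≤ Nat.card Y → Y = X := by
  haveI := Fi23.finite
  haveI : Fact (Nat.Prime 2) := ⟨Nat.prime_two⟩
  let P : Sylow 2 G := T0_isPGroup.toSylow T0_index
  obtain ⟨g, hg⟩ := MulAction.exists_smul_eq G P T
  let e : G ≃* G := MulAut.conj g
  have hT : (T : Subgroup G) = T0.map e.toMonoidHom := by
    rw [← hg]
    rfl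
  have helem : ∀ (Y : Subgroup G) (h : G ≃* G), Cfsg.IsElementaryAbelian 2 Y →
      Cfsg.IsElementaryAbelian 2 (Y.map h.toMonoidHom) := by
    intro Y h hY
    refine ⟨⟨⟨?_⟩⟩, ?_⟩
    · rintro ⟨_, x, hx, rfl⟩ ⟨_, y, hy, rfl⟩
      apply Subtype.ext
      show h x * h y = h y * h x
      rw [← map_mul, ← map_mul]
      exact congrArg h (congrArg Subtype.val (hY.1.is_comm.comm ⟨x, hx⟩ ⟨y, hy⟩))
    · rintro _ ⟨x, hx, rfl⟩
      show h x ^ 2 = 1
      rw [← map_pow, hY.2 x hx, map_one]
  have main : ∀ Y : Subgroup G, Y ≤ T → Cfsg.IsElementaryAbelian 2 Y → 2 ^ 11 ≤ Nat.card Y →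
      Y = A.map e.toMonoidHom := by
    intro Y hY hYe hc
    have h1 : Y.map e.symm.toMonoidHom = A := by
      refine eq_A ?_ (helem Y e.symm hYe) ?_
      · rw [Subgroup.map_le_iff_le_comap]
        intro y hy
        have h2 := hY hy
        rw [hT] at h2
        obtain ⟨x, hx, rfl⟩ := h2
        show e.symm (e x) ∈ T0
        rwa [e.symm_apply_apply]
      · rwa [Subgroup.card_map_of_injective (f := e.symm.toMonoidHom) e.symm.injective]
    rw [← h1, Subgroup.map_map]
    ext y
    simp
  refine ⟨fun Y hY hYe => ?_, A.map e.toMonoidHom, ⟨?_, ?_, helem A e A_elementary, ?_⟩, main⟩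
  · by_contra hlt
    push Not at hlt
    have := congrArg (fun S : Subgroup G => Nat.card S) (main Y hY hYe hlt.le)
    simp only [Subgroup.card_map_of_injective (f := e.toMonoidHom) e.injective, A_card] at this
    norm_num at hlt
    omega
  · rw [hT]
    exact Subgroup.map_mono A_le
  · refine ⟨fun x hx t => ?_⟩
    rw [Subgroup.mem_subgroupOf] at hx ⊢
    obtain ⟨y, hy, hyx⟩ := hx
    have ht : (t : G) ∈ T0.map e.toMonoidHom := SetLike.le_def.mp hT.le t.2
    obtain ⟨s, hs, hst⟩ := ht
    refine ⟨s * y * s⁻¹, A_normal hs hy, ?_⟩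
    rw [map_mul, map_mul, map_inv, hyx, hst]
    rfl
  · rw [Subgroup.card_map_of_injective (f := e.toMonoidHom) e.injective, A_card]
    norm_num

end Cfsg.Agent.Fi23Syl
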