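import Cfsg.Agent.Fi23Syl.Data
import Cfsg.Agent.Fi23Syl.Mask
import Mathlib

/-!
The finite model: 128 permutations of 23 points, acting on an 11-dimensional code, and the bound
for its elementary abelian subgroups.
-/

set_option autoImplicit false
set_option maxRecDepth 100000

namespace Cfsg.Agent.Fi23Syl

open Cfsg.Agent.CosetEnum

/-- The image of `k` under the permutation number `i`. -/
noncomputable def app (i k : ℕ) : ℕ := Nat.land (Nat.shiftRight (elT.get 128 i) (5 * k)) 31

/-- The product of two of the permutations. -/
noncomputable def mu (i j : ℕ) : ℕ := muT.get 16 (128 * i + j)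

/-- The action of a permutation on code vectors, on the first `k` coordinates. -/
noncomputable def actK (i : ℕ) : ℕ → ℕ → ℕ
  | 0, _ => 0
  | k + 1, v => actK i k v ^^^ (bif v.testBit k then code.getD (app i (bidx.getD k 0)) 0 else 0)

/-- The action of a permutation on code vectors. -/
noncomputable def act (i v : ℕ) : ℕ := actK i 11 v

/-- The bit of `v` in the mask `m`. -/
noncomputable def bit (m v : ℕ) : Bool := Nat.beq (Nat.land (Nat.shiftRight m v) 1) 1

/-- The image of the `k`-th basis vector under the permutation number `i`. -/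
noncomputable def colv (i k : ℕ) : ℕ := code.getD (app i (bidx.getD k 0)) 0

/-- Depth first check that every fixed vector has its bit in the mask. -/
noncomputable def maskDfs (i m : ℕ) : ℕ → ℕ → ℕ → Bool
  | 0, v, w => !(Nat.beq w v) || bit m v
  | k + 1, v, w => forceNat v fun v => forceNat w fun w =>
      maskDfs i m k v w && maskDfs i m k (2 ^ k + v) (colv i k ^^^ w)

theorem actK_congr (i : ℕ) : ∀ k u u', (∀ j < k, u.testBit j = u'.testBit j) →
    actK i k u = actK i k u'
  | 0, _, _, _ => rfl
  | k + 1, u, u', h => by
    rw [actK, actK, actK_congr i k u u' fun j hj => h j (Nat.lt_succ_of_lt hj), h k (Nat.lt_succ_self k)]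

theorem maskDfs_sound (i m : ℕ) : ∀ (k v w : ℕ), maskDfs i m k v w = true →
    ∀ u < 2 ^ k, actK i k u ^^^ w = v + u → bit m (v + u) = true
  | 0, v, w, h, u, hu, he => by
    obtain rfl : u = 0 := by simpa using hu
    rw [actK, Nat.zero_xor, Nat.add_zero] at he
    rw [Nat.add_zero]
    rw [maskDfs, he, Nat.beq_refl] at h
    simpa using h
  | k + 1, v, w, h, u, hu, he => by
    simp only [maskDfs, forceNat_eq, Bool.and_eq_true] at h
    rcases Nat.lt_or_ge u (2 ^ k) with hlt | hge
    · rw [actK, Nat.testBit_lt_two_pow hlt, cond_false, Nat.xor_zero] at he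
      exact maskDfs_sound i m k v w h.1 u hlt he
    · obtain ⟨r, rfl⟩ := Nat.exists_eq_add_of_le hge
      have hr : r < 2 ^ k := by rw [pow_succ] at hu; omega
      have htop : (2 ^ k + r).testBit k = true := by
        rw [Nat.testBit_two_pow_add_eq, Nat.testBit_lt_two_pow hr]; rfl
      have hlow : actK i k (2 ^ k + r) = actK i k r :=
        actK_congr i k _ _ fun j hj => Nat.testBit_two_pow_add_gt hj r
      rw [actK, htop, cond_true, hlow, Nat.xor_assoc] at he
      have := maskDfs_sound i m k (2 ^ k + v) (colv i k ^^^ w) h.2 r hr (by rw [colv, he]; omega)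
      rwa [show v + (2 ^ k + r) = 2 ^ k + v + r by omega]

/-- The masks contain all fixed vectors of the involutions. -/
noncomputable def maskOk : Bool :=
  allRange (fun i => bif Nat.beq (mu i i) 0 then
    forceNat (maskT.get 2048 i) fun m => maskDfs i m 11 0 0 else true) 0 128

theorem mask_ok : maskOk = true := by decide +kernel

theorem mask_spec {i : ℕ} (hi : i < 128) (h2 : mu i i = 0) {v : ℕ} (hv : v < 2048)
    (h : act i v = v) : bit (maskT.get 2048 i) v = true := by
  have h1 := allRange_spec mask_ok i (Nat.zero_le _) (by omega)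
  simp only [h2, Nat.beq_refl, cond_true, forceNat_eq] at h1
  have := maskDfs_sound i (maskT.get 2048 i) 11 0 0 h1 v (by simpa using hv)
    (by rw [Nat.xor_zero, Nat.zero_add]; exact h)
  rwa [Nat.zero_add] at this

/-- Filtering in continuation-passing style, so that the kernel evaluates the result once. -/
noncomputable def filterK (p : ℕ → Bool) (L : List ℕ) : (List ℕ → Bool) → Bool :=
  List.rec (motive := fun _ => (List ℕ → Bool) → Bool) (fun k => k [])
    (fun x _ ih k => bif p x then ih (fun r => k (x :: r)) else ih k) L

theorem filterK_eq (p : ℕ → Bool) : ∀ (L : List ℕ) (k : List ℕ → Bool), filterK p L k = k (L.filter p)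
  | [], k => rfl
  | x :: L, k => by
    show (bif p x then filterK p L (fun r => k (x :: r)) else filterK p L k) = _
    rw [filterK_eq p L, filterK_eq p L]
    cases h : p x <;> simp [h]

/-- Mapping in continuation-passing style. -/
noncomputable def mapK (f : ℕ → ℕ) (L : List ℕ) : (List ℕ → Bool) → Bool :=
  List.rec (motive := fun _ => (List ℕ → Bool) → Bool) (fun k => k [])
    (fun x _ ih k => forceNat (f x) fun y => ih (fun r => k (y :: r))) L

theorem mapK_eq (f : ℕ → ℕ) : ∀ (L : List ℕ) (k : List ℕ → Bool), mapK f L k = k (L.map f)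
  | [], k => rfl
  | x :: L, k => by
    show (forceNat (f x) fun y => mapK f L (fun r => k (y :: r))) = _
    rw [forceNat_eq, mapK_eq f L]
    rfl

/-- The search over elementary abelian subgroups: `C` lists the candidates for further generators. -/
noncomputable def node : ℕ → ℕ → List ℕ → List ℕ → List ℕ → Bool
  | 0, _, _, _, _ => false
  | fuel + 1, last, span, F, C =>
    (Nat.beq span.length 1 || Nat.blt (span.length * F.length) 2048) &&
    C.all (fun x =>
      bif Nat.blt last x && !(span.any fun b => Nat.beq b x) then
        forceNat (maskT.get 2048 x) fun m =>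
          mapK (fun b => mu b x) span fun S =>
          filterK (bit m) F fun F' =>
          filterK (fun c => Nat.beq (mu c x) (mu x c)) C fun C' =>
            node fuel x (span ++ S) F' C'
      else true)

/-- The involutions of the model. -/
noncomputable def invols : List ℕ := (List.range 128).filter fun x => Nat.beq (mu x x) 0

theorem search_ok : node 6 0 [0] (List.range 2048) invols = true := by decide +kernel

theorem mem_invols {b : ℕ} (hb : b < 128) (h : mu b b = 0) : b ∈ invols :=
  List.mem_filter.mpr ⟨List.mem_range.mpr hb, by rw [h]; rfl⟩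

theorem node_sound {B : Finset ℕ} (hB : ∀ b ∈ B, b < 128)
    (hmul : ∀ b ∈ B, ∀ c ∈ B, mu b c ∈ B) (hcomm : ∀ b ∈ B, ∀ c ∈ B, mu b c = mu c b)
    (hsq : ∀ b ∈ B, mu b b = 0) (hone : ∀ b ∈ B, mu 0 b = b) {V : Finset ℕ} (hV2 : ∀ v ∈ V, v < 2048)
    (hfix : ∀ b ∈ B, ∀ v ∈ V, act b v = v) :
    ∀ (fuel last : ℕ) (span F C : List ℕ), node fuel last span F C = true → 0 ∈ span → (∀ b ∈ span, b ∈ B) →
      (∀ b ∈ B, b ∈ span ∨ last < b) → (∀ v ∈ V, v ∈ F) → (∀ b ∈ B, b ∈ C) →
      B.card * V.card < 2048 ∨ B.card ≤ 1
  | 0, _, _, _, _, h, _, _, _, _, _ => by simp [node] at h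
  | fuel + 1, last, span, F, C, h, h0, hs, hl, hV, hC => by
    classical
    simp only [node, Bool.and_eq_true, Bool.or_eq_true] at h
    by_cases hfull : ∀ b ∈ B, b ∈ span
    · have h1 : B.card ≤ span.length :=
        (Finset.card_le_card fun b hb => List.mem_toFinset.mpr (hfull b hb)).trans
          (List.toFinset_card_le span)
      have h2 : V.card ≤ F.length :=
        (Finset.card_le_card fun b hb => List.mem_toFinset.mpr (hV b hb)).trans
          (List.toFinset_card_le F)
      rcases h.1 with h3 | h3
      · exact Or.inr (h1.trans (Nat.eq_of_beq_eq_true h3).le)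
      · exact Or.inl (lt_of_le_of_lt (Nat.mul_le_mul h1 h2) (Nat.le_of_ble_eq_true h3))
    · push Not at hfull
      obtain ⟨b, hb, hbs⟩ := hfull
      have hne : (B.filter fun b => b ∉ span).Nonempty := ⟨b, Finset.mem_filter.mpr ⟨hb, hbs⟩⟩
      set x := (B.filter fun b => b ∉ span).min' hne with hx
      obtain ⟨hxB, hxs⟩ := Finset.mem_filter.mp ((B.filter fun b => b ∉ span).min'_mem hne)
      rw [← hx] at hxB hxs
      have hcond : (Nat.blt last x && !(span.any fun b => Nat.beq b x)) = true := by
        rw [Bool.and_eq_true]
        refine ⟨Nat.ble_eq_true_of_le ((hl x hxB).resolve_left hxs), ?_⟩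
        have : span.any (fun b => Nat.beq b x) = false := by
          rw [List.any_eq_false]
          intro c hc hcx
          exact hxs (Nat.eq_of_beq_eq_true hcx ▸ hc)
        rw [this]
        rfl
      have hstep := List.all_eq_true.mp h.2 x (hC x hxB)
      rw [hcond, cond_true, forceNat_eq, mapK_eq, filterK_eq, filterK_eq] at hstep
      refine node_sound hB hmul hcomm hsq hone hV2 hfix fuel x _ _ _ hstep (List.mem_append_left _ h0) ?_ ?_ ?_ ?_
      · intro c hc
        rcases List.mem_append.mp hc with hc | hc
        · exact hs c hc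
        · obtain ⟨d, hd, rfl⟩ := List.mem_map.mp hc
          exact hmul d (hs d hd) x hxB
      · intro c hc
        by_cases hcs : c ∈ span ++ span.map fun b => mu b x
        · exact Or.inl hcs
        · right
          have hcs' : c ∉ span := fun h => hcs (List.mem_append_left _ h)
          have hle : x ≤ c :=
            (B.filter fun b => b ∉ span).min'_le c (Finset.mem_filter.mpr ⟨hc, hcs'⟩)
          refine lt_of_le_of_ne hle fun he => hcs (List.mem_append_right _ ?_)
          exact List.mem_map.mpr ⟨0, h0, (hone x hxB).trans he⟩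
      · intro v hv
        exact List.mem_filter.mpr ⟨hV v hv, mask_spec (hB x hxB) (hsq x hxB) (hV2 v hv) (hfix x hxB v hv)⟩
      · intro c hc
        refine List.mem_filter.mpr ⟨hC c hc, ?_⟩
        rw [hcomm c hc x hxB]
        exact Nat.beq_refl _

end Cfsg.Agent.Fi23Syl
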